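import Cfsg.Agent.Lib.PCore.PSolvable
import Cfsg.Agent.Lib.Solvable.Basic
import Cfsg.Agent.Lib.Coprime.Basic

/-! `p`-solvable groups whose maximal subgroups are `p`-nilpotent or of prime index. -/

namespace Cfsg.Agent.MaxNilpotent

open scoped Pointwise
open Subgroup

variable {G : Type*} [Group G]

/-- Every maximal subgroup has a normal `p`-complement or prime index. -/
def Good (p : ℕ) (G : Type*) [Group G] : Prop :=
  ∀ M : Subgroup G, IsCoatom M →
    (∃ K : Subgroup ↥M, K.Normal ∧ ¬ p ∣ Nat.card K ∧ ∃ k : ℕ, K.index = p ^ k) ∨ (M.index).Prime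

theorem isCoatom_comap {H : Type*} [Group H] (f : G →* H) (hf : Function.Surjective f)
    {M : Subgroup H} (hM : IsCoatom M) : IsCoatom (M.comap f) := by
  refine ⟨fun h => hM.1 ?_, fun L hL => ?_⟩
  · rw [← map_comap_eq_self_of_surjective hf M, h, map_top_of_surjective f hf]
  · have hker : f.ker ≤ L := (ker_le_comap f M).trans hL.le
    rcases eq_or_lt_of_le (show M ≤ L.map f by
      rw [← map_comap_eq_self_of_surjective hf M]; exact map_mono hL.le) with h | h
    · exact absurd (by rw [h, comap_map_eq_self hker]) hL.ne
    · rw [← comap_map_eq_self hker, hM.2 _ h, comap_top]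

theorem good_quotient {p : ℕ} [Finite G] (N : Subgroup G) [N.Normal] (h : Good p G) (hp : p.Prime) :
    Good p (G ⧸ N) := by
  intro M hM
  have hs := QuotientGroup.mk'_surjective N
  rcases h _ (isCoatom_comap _ hs hM) with ⟨K, hKn, hKp, k, hk⟩ | h'
  · refine Or.inl ?_
    have hφ := (QuotientGroup.mk' N).subgroupComap_surjective_of_surjective M hs
    refine ⟨K.map ((QuotientGroup.mk' N).subgroupComap M), hKn.map _ hφ,
      fun hd => hKp (hd.trans (card_map_dvd _ _)), ?_⟩
    obtain ⟨i, -, hi⟩ := (Nat.dvd_prime_pow hp).mp (hk ▸ index_map_dvd K hφ)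
    exact ⟨i, hi⟩
  · exact Or.inr (by rwa [index_comap_of_surjective _ hs] at h')

/-- The conclusion: layers `p', p, p', p, p'`, the last one trivial for `p = 2`. -/
def Series (p : ℕ) (G : Type*) [Group G] : Prop :=
  ∃ A B C D : Subgroup G, A.Normal ∧ B.Normal ∧ C.Normal ∧ D.Normal ∧ A ≤ B ∧ B ≤ C ∧ C ≤ D ∧
    ¬ p ∣ Nat.card A ∧ (∃ k : ℕ, A.relIndex B = p ^ k) ∧ ¬ p ∣ B.relIndex C ∧
    (∃ k : ℕ, C.relIndex D = p ^ k) ∧ ¬ p ∣ D.index ∧ (p = 2 → D = ⊤)

theorem relIndex_comap_of_surjective {H : Type*} [Group H] (f : G →* H)
    (hf : Function.Surjective f) (A B : Subgroup H) :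
    (A.comap f).relIndex (B.comap f) = A.relIndex B := by
  rw [relIndex_comap, map_comap_eq_self_of_surjective hf]

theorem card_comap_mk (N : Subgroup G) [N.Normal] (A : Subgroup (G ⧸ N)) :
    Nat.card (A.comap (QuotientGroup.mk' N)) = Nat.card A * Nat.card N :=
  (Nat.card_congr (QuotientGroup.preimageMkEquivSubgroupProdSet N _)).trans
    ((Nat.card_prod _ _).trans (mul_comm _ _))

theorem relIndex_inf_dvd [Finite G] {A B Z : Subgroup G} [A.Normal] :
    (A ⊓ Z).relIndex (B ⊓ Z) ∣ A.relIndex B := by
  have h1 : (A ⊓ Z).relIndex (B ⊓ Z) = A.relIndex (B ⊓ Z) := by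
    rw [← inf_relIndex_right, ← inf_relIndex_right A]
    congr 1
    exact le_antisymm (le_inf (inf_le_left.trans inf_le_left) inf_le_right)
      (le_inf (le_inf inf_le_left (inf_le_right.trans inf_le_right)) inf_le_right)
  rw [h1, ← relIndex_subgroupOf (inf_le_left : B ⊓ Z ≤ B)]
  exact relIndex_dvd_index_of_normal (A.subgroupOf B) _

/-- Main theorem. -/
theorem series_of_good (p : ℕ) [Fact p.Prime] : ∀ (n : ℕ) (G : Type*) [Group G] [Finite G],
    Nat.card G ≤ n → IsPSolvable p G → Good p G → Series p G := by
  intro n
  have hp : p.Prime := Fact.out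
  induction n with
  | zero => intro G _ _ h; exact absurd h (not_le.mpr Nat.card_pos)
  | succ n ih =>
    intro G _ _ hle hG hgood
    rcases subsingleton_or_nontrivial G with hs | hs
    · refine ⟨⊥, ⊥, ⊥, ⊤, inferInstance, inferInstance, inferInstance, inferInstance, le_rfl, le_rfl,
        bot_le, ?_, ⟨0, by simp⟩, by simp [hp.ne_one], ⟨0, ?_⟩, by simp [hp.ne_one], fun _ => rfl⟩
      · simp [hp.ne_one]
      · simp
    -- induction step through a quotient
    have hquot : ∀ (W : Subgroup G) [W.Normal], W ≠ ⊥ → ∃ A B C D : Subgroup G,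
        A.Normal ∧ B.Normal ∧ C.Normal ∧ D.Normal ∧ W ≤ A ∧ A ≤ B ∧ B ≤ C ∧ C ≤ D ∧
        ¬ p ∣ W.relIndex A ∧ (∃ k : ℕ, A.relIndex B = p ^ k) ∧ ¬ p ∣ B.relIndex C ∧
        (∃ k : ℕ, C.relIndex D = p ^ k) ∧ ¬ p ∣ D.index ∧ (p = 2 → D = ⊤) := by
      intro W _ hW
      have hlt : Nat.card (G ⧸ W) ≤ n := by
        have h1 := card_eq_card_quotient_mul_card_subgroup W
        have h2 : 1 < Nat.card W := (one_lt_card_iff_ne_bot W).mpr hW
        have h3 : 0 < Nat.card (G ⧸ W) := Nat.card_pos
        nlinarith
      obtain ⟨A, B, C, D, hA, hB, hC, hD, hAB, hBC, hCD, h1, h2, h3, h4, h5, h6⟩ :=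
        ih (G ⧸ W) hlt (PCore.isPSolvable_quotient hG W) (good_quotient W hgood hp)
      have hs := QuotientGroup.mk'_surjective W
      have hWA : W ≤ A.comap (QuotientGroup.mk' W) := by
        have := ker_le_comap (QuotientGroup.mk' W) A
        rwa [QuotientGroup.ker_mk'] at this
      refine ⟨A.comap (QuotientGroup.mk' W), B.comap (QuotientGroup.mk' W),
        C.comap (QuotientGroup.mk' W), D.comap (QuotientGroup.mk' W), hA.comap _, hB.comap _,
        hC.comap _, hD.comap _, hWA, comap_mono hAB, comap_mono hBC, comap_mono hCD, ?_,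
        by rwa [relIndex_comap_of_surjective _ hs], by rwa [relIndex_comap_of_surjective _ hs],
        by rwa [relIndex_comap_of_surjective _ hs], by rwa [index_comap_of_surjective _ hs],
        fun h => by rw [h6 h, comap_top]⟩
      have e := relIndex_mul_relIndex (H := ⊥) (K := W) _ bot_le hWA
      rw [relIndex_bot_left, relIndex_bot_left, card_comap_mk, mul_comm] at e
      rwa [Nat.eq_of_mul_eq_mul_right Nat.card_pos e]
    -- a normal `p'`-subgroup can be absorbed
    by_cases hO : pPrimeCore p G = ⊥
    swap
    · have hn : (pPrimeCore p G).Normal := sSup_normal _ fun _ h => h.1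
      obtain ⟨A, B, C, D, hA, hB, hC, hD, hWA, hAB, hBC, hCD, h1, h2, h3, h4, h5, h6⟩ :=
        hquot (pPrimeCore p G) hO
      refine ⟨A, B, C, D, hA, hB, hC, hD, hAB, hBC, hCD, ?_, h2, h3, h4, h5, h6⟩
      have e := relIndex_mul_relIndex (H := ⊥) (K := pPrimeCore p G) (L := A) bot_le hWA
      rw [relIndex_bot_left, relIndex_bot_left] at e
      rw [← e]
      exact hp.not_dvd_mul PCore.not_dvd_card_pPrimeCore h1
    obtain ⟨W, hWn, -, hW, hmin⟩ := Solvable.exists_minimal_normal (K := (⊤ : Subgroup G)) top_ne_bot
    have hWp : IsPGroup p W := by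
      refine (PCore.isPGroup_or_coprime_of_minimal_normal hG W hmin).resolve_right fun hc => hW ?_
      exact le_bot_iff.mp ((PCore.le_pPrimeCore hc).trans hO.le)
    have hWs : Group.IsSolvable W := by
      have := hWp.isNilpotent
      infer_instance
    have hWc : IsMulCommutative W := Solvable.isMulCommutative_of_minimal hWs hW hmin
    obtain ⟨A, B, C, D, hA, hB, hC, hD, hWA, hAB, hBC, hCD, h1, h2, h3, h4, h5, h6⟩ := hquot W hW
    obtain ⟨a, ha⟩ := IsPGroup.iff_card.mp hWp
    have hcopA : (Nat.card W).Coprime (W.relIndex A) := by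
      rw [ha]; exact Nat.Coprime.pow_left a ((Nat.Prime.coprime_iff_not_dvd hp).mpr h1)
    have hnorm : (W.subgroupOf A).Normal := inferInstance
    have hcop' : (Nat.card (W.subgroupOf A)).Coprime (W.subgroupOf A).index := by
      rwa [Coprime.card_subgroupOf hWA]
    obtain ⟨K', hK'⟩ := exists_right_complement'_of_coprime hcop'
    set K := K'.map A.subtype with hK
    have hKA : K ≤ A := map_subtype_le K'
    have hKcard : Nat.card K = W.relIndex A := by
      rw [hK, card_map_of_injective A.subtype_injective, ← hK'.symm.index_eq_card]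
      rfl
    have hKp : ¬ p ∣ Nat.card K := hKcard ▸ h1
    have hAW : A = W ⊔ K := by
      refine le_antisymm (fun x hx => ?_) (sup_le hWA hKA)
      obtain ⟨⟨u, v⟩, huv⟩ := hK'.2 ⟨x, hx⟩
      have e : (((u : A) : G)) * ((v : A) : G) = x := congrArg Subtype.val huv
      rw [← e]
      exact mul_mem_sup u.2 ⟨v.1, v.2, rfl⟩
    -- the Frattini argument
    have hFr : normalizer (K : Set G) ⊔ W = ⊤ := by
      refine top_le_iff.mp fun g _ => ?_
      have hgA : MulAut.conj g • K ≤ W ⊔ K := by
        rw [← hAW]
        intro y hy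
        rw [Coprime.mem_conj_smul_iff] at hy
        have := hA.conj_mem _ (hKA hy) g
        simpa [mul_assoc] using this
      have hKN : K ≤ normalizer (W : Set G) := by rw [normalizer_eq_top]; exact le_top
      obtain ⟨w, hw, hw'⟩ := Coprime.exists_conj_eq_of_le_sup_of_comm W K (MulAut.conj g • K) hKN
        (by rwa [sup_comm]) (Coprime.card_conj_smul g K)
        (by rw [hKcard]; exact hcopA.symm)
      have hmem : w⁻¹ * g ∈ normalizer (K : Set G) := by
        rw [mem_normalizer_iff'']
        intro y
        have : MulAut.conj (w⁻¹ * g) • K = K := by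
          rw [← Coprime.conj_smul_smul, ← hw', Coprime.conj_smul_smul]
          simp
        conv_lhs => rw [← this]
        rw [Coprime.mem_conj_smul_iff]
      have := mul_mem (mem_sup_right (S := normalizer (K : Set G)) hw) (mem_sup_left (T := W) hmem)
      simpa using this
    by_cases hKn : normalizer (K : Set G) = ⊤
    · have : K.Normal := normalizer_eq_top_iff.mp hKn
      have hK1 : K = ⊥ := le_bot_iff.mp ((PCore.le_pPrimeCore
        ((Nat.Prime.coprime_iff_not_dvd hp).mpr hKp).symm).trans hO.le)
      rw [hK1, sup_bot_eq] at hAW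
      subst hAW
      obtain ⟨k, hk⟩ := h2
      refine ⟨⊥, B, C, D, inferInstance, hB, hC, hD, bot_le, hBC, hCD, by simp [hp.ne_one],
        ⟨a + k, ?_⟩, h3, h4, h5, h6⟩
      rw [← relIndex_mul_relIndex (H := (⊥ : Subgroup G)) (K := A) (L := B) bot_le hAB,
        relIndex_bot_left, ha, hk, pow_add]
    obtain ⟨M, hM, hKM⟩ := (eq_top_or_exists_le_coatom (normalizer (K : Set G))).resolve_left hKn
    have hMW : M ⊔ W = ⊤ := top_le_iff.mp (hFr ▸ sup_le_sup_right hKM W)
    have hMi : M ⊓ W = ⊥ := by
      have hn : (M ⊓ W).Normal := by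
        refine normalizer_eq_top_iff.mp (top_le_iff.mp ?_)
        rw [← hMW]
        refine sup_le (fun m hm => ?_) (fun w hw => ?_)
        · rw [mem_normalizer_iff]
          intro y
          simp only [mem_inf]
          constructor
          · exact fun hy => ⟨mul_mem (mul_mem hm hy.1) (inv_mem hm), hWn.conj_mem y hy.2 m⟩
          · intro hy
            refine ⟨?_, ?_⟩
            · simpa [mul_assoc] using mul_mem (mul_mem (inv_mem hm) hy.1) hm
            · simpa [mul_assoc] using hWn.conj_mem _ hy.2 m⁻¹
        · rw [mem_normalizer_iff]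
          intro y
          simp only [mem_inf]
          constructor
          · intro hy
            have e : w * y * w⁻¹ = y := by
              have := congrArg Subtype.val (hWc.is_comm.comm (⟨w, hw⟩ : W) ⟨y, hy.2⟩)
              simp only [coe_mul] at this
              rw [this]; group
            rw [e]; exact hy
          · intro hy
            have e : w * y * w⁻¹ = y := by
              have := congrArg Subtype.val
                (hWc.is_comm.comm (⟨w, hw⟩ : W) ⟨w * y * w⁻¹, hy.2⟩)
              simp only [coe_mul] at this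
              have e2 : w * (w * y * w⁻¹) = w * y := by rw [this]; group
              exact mul_left_cancel e2
            rwa [e] at hy
      rcases hmin _ hn inf_le_right with h | h
      · exact h
      · exfalso
        have : W ≤ M := h ▸ inf_le_left
        exact hM.1 (by rw [← hMW, sup_eq_left.mpr this])
    have hMidx : M.index = Nat.card W := by
      rw [← relIndex_top_right, ← hMW]
      have hc : Nat.card (M ⊔ W : Subgroup G) = Nat.card M * Nat.card W :=
        Coprime.card_sup_of_le_normalizer (by rw [normalizer_eq_top]; exact le_top) hMi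
      have e := relIndex_mul_relIndex (H := ⊥) (K := M) (L := M ⊔ W) bot_le le_sup_left
      rw [relIndex_bot_left, relIndex_bot_left, hc] at e
      exact Nat.eq_of_mul_eq_mul_left Nat.card_pos e
    rcases hgood M hM with ⟨K0, hK0n, hK0p, k, hk⟩ | hpr
    · -- `M` is `p`-nilpotent
      set L := K0.map M.subtype with hL
      have hLn : (L ⊔ W).Normal := by
        refine normalizer_eq_top_iff.mp (top_le_iff.mp ?_)
        rw [← hMW]
        refine sup_le (fun m hm => ?_) (le_sup_right.trans le_normalizer)
        have hmn : m ∈ normalizer (L : Set G) := by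
          rw [hL]
          exact le_normalizer_map M.subtype ⟨⟨m, hm⟩, by
            rw [normalizer_eq_top]; exact mem_top _, rfl⟩
        rw [mem_normalizer_iff]
        intro y
        have e : MulAut.conj m • (L ⊔ W) = L ⊔ W := by
          rw [smul_sup, Coprime.conj_smul_eq_self_of_mem hmn,
            Coprime.conj_smul_eq_self_of_mem (by rw [normalizer_eq_top]; exact mem_top _)]
        conv_rhs => rw [← e]
        rw [Coprime.mem_conj_smul_iff]
        simp [mul_assoc]
      refine ⟨⊥, W, L ⊔ W, ⊤, inferInstance, hWn, hLn, inferInstance, bot_le, le_sup_right, le_top,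
        by simp [hp.ne_one], ⟨a, by rw [relIndex_bot_left, ha]⟩, ?_, ?_, by simp [hp.ne_one],
        fun _ => rfl⟩
      · rw [relIndex_sup_right]
        intro hd
        refine hK0p (hd.trans ?_)
        have h1 : W.relIndex L ∣ Nat.card L := by
          rw [← relIndex_bot_left]
          exact relIndex_dvd_of_le_left _ bot_le
        exact h1.trans (card_map_dvd _ _)
      · rw [relIndex_top_right]
        have h1 : (L ⊔ W).index ∣ p ^ k := by
          have : (L ⊔ W).index = (L ⊔ W).relIndex M := by
            have e : M ⊔ (L ⊔ W) = ⊤ := by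
              rw [← sup_assoc, sup_comm M L, sup_assoc, hMW, sup_top_eq]
            rw [← relIndex_sup_right M (L ⊔ W), e, relIndex_top_right]
          rw [this, ← hk]
          refine index_dvd_of_le (show K0 ≤ (L ⊔ W).subgroupOf M from fun x hx => ?_)
          exact mem_sup_left ⟨x, hx, rfl⟩
        obtain ⟨i, -, hi⟩ := (Nat.dvd_prime_pow hp).mp h1
        exact ⟨i, hi⟩
    · -- prime index: `W` has order `p`
      have hWcard : Nat.card W = p := by
        rw [hMidx, ha] at hpr
        rw [ha, Nat.Prime.eq_one_of_pow hpr, pow_one]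
      set Z := centralizer (W : Set G) with hZ
      have hWZ : W ≤ Z := le_centralizer_iff_isMulCommutative.mpr hWc
      have hZn : Z.Normal := inferInstance
      have hKZ : K ⊓ Z = ⊥ := by
        have hn : (K ⊓ Z).Normal := by
          refine normalizer_eq_top_iff.mp (top_le_iff.mp ?_)
          rw [← hFr]
          refine sup_le (fun g hg => ?_) ?_
          · rw [mem_normalizer_iff]
            intro y
            simp only [mem_inf]
            rw [mem_normalizer_iff.mp hg y]
            exact and_congr_right fun _ => ⟨fun h => hZn.conj_mem y h g, fun h => by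
              simpa [mul_assoc] using hZn.conj_mem _ h g⁻¹⟩
          · intro w hw
            rw [mem_normalizer_iff]
            intro y
            have key : ∀ y ∈ Z, w * y * w⁻¹ = y := fun y hy => by
              rw [mem_centralizer_iff] at hy
              rw [hy w hw]; group
            constructor
            · intro hy; rw [key y hy.2]; exact hy
            · intro hy
              have h2 : y ∈ Z := by simpa [mul_assoc] using hZn.conj_mem _ hy.2 w⁻¹
              rwa [key y h2] at hy
        refine le_bot_iff.mp ((PCore.le_pPrimeCore ?_).trans hO.le)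
        exact ((Nat.Prime.coprime_iff_not_dvd hp).mpr hKp).symm.coprime_dvd_left
          (card_dvd_of_le inf_le_left)
      have hp2 : p ≠ 2 := by
        intro h2
        apply hKn
        have hWcen : W ≤ normalizer (K : Set G) := by
          have hone : ∀ g : G, ∀ w ∈ W, g * w * g⁻¹ = w := by
            intro g w hw
            by_contra hne
            have hcard : Nat.card W = 2 := hWcard.trans h2
            obtain ⟨u, hu⟩ := (Nat.card_eq_two_iff' (1 : W)).mp hcard
            have hw1 : (⟨w, hw⟩ : W) ≠ 1 := by
              intro he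
              apply hne
              rw [show w = 1 from congrArg Subtype.val he]; group
            have hg1 : (⟨g * w * g⁻¹, hWn.conj_mem w hw g⟩ : W) ≠ 1 := by
              intro he
              apply hw1
              have e : g * w * g⁻¹ = 1 := congrArg Subtype.val he
              apply Subtype.ext
              show w = 1
              calc w = g⁻¹ * (g * w * g⁻¹) * g := by group
                _ = 1 := by rw [e]; group
            exact hne (congrArg Subtype.val ((hu.2 _ hg1).trans (hu.2 _ hw1).symm))
          intro w hw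
          rw [mem_normalizer_iff]
          intro y
          have e : w * y * w⁻¹ = y := by
            have := hone y w hw
            calc w * y * w⁻¹ = (y * w * y⁻¹) * y * w⁻¹ := by rw [this]
              _ = y := by group
          rw [e]
        exact top_le_iff.mp (hFr ▸ sup_le le_rfl hWcen)
      have hAZ : A ⊓ Z = W := by
        refine le_antisymm (fun x hx => ?_) (le_inf hWA hWZ)
        have hxA : x ∈ K ⊔ W := by rw [sup_comm, ← hAW]; exact hx.1
        obtain ⟨k, hk, w, hw, e⟩ := mem_sup_of_normal_right.mp hxA
        have hkZ : k ∈ K ⊓ Z := ⟨hk, by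
          have : k = x * w⁻¹ := by rw [← e]; group
          rw [this]; exact Z.mul_mem hx.2 (Z.inv_mem (hWZ hw))⟩
        rw [hKZ, mem_bot] at hkZ
        rw [← e, hkZ, one_mul]; exact hw
      obtain ⟨k2, hk2⟩ := h2
      obtain ⟨k4, hk4⟩ := h4
      obtain ⟨i, -, hi⟩ := (Nat.dvd_prime_pow hp).mp
        (hk2 ▸ relIndex_inf_dvd (A := A) (B := B) (Z := Z))
      obtain ⟨j, -, hj⟩ := (Nat.dvd_prime_pow hp).mp
        (hk4 ▸ relIndex_inf_dvd (A := C) (B := D) (Z := Z))
      refine ⟨⊥, B ⊓ Z, C ⊓ Z, D ⊓ Z, inferInstance, inferInstance, inferInstance, inferInstance,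
        bot_le, inf_le_inf_right Z hBC, inf_le_inf_right Z hCD, by simp [hp.ne_one], ⟨a + i, ?_⟩,
        fun h => h3 (h.trans relIndex_inf_dvd), ⟨j, hj⟩, ?_, fun h => absurd h hp2⟩
      · rw [← relIndex_mul_relIndex (H := (⊥ : Subgroup G)) (K := A ⊓ Z) (L := B ⊓ Z) bot_le
          (inf_le_inf_right Z hAB), relIndex_bot_left, hi, hAZ, ha, pow_add]
      · intro hd
        have hZi : ¬ p ∣ Z.index := by
          have : Fact (Nat.card W).Prime := ⟨hWcard ▸ hp⟩
          have hcyc : IsCyclic W := isCyclic_of_prime_card hWcard
          have hker : Z = (MulAut.conjNormal : G →* MulAut W).ker := by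
            ext g
            rw [MonoidHom.mem_ker, MulEquiv.ext_iff, hZ, mem_centralizer_iff]
            constructor
            · intro h w
              apply Subtype.ext
              show g * (w : G) * g⁻¹ = w
              rw [← h w w.2]; group
            · intro h w hw
              have e : g * w * g⁻¹ = w := congrArg Subtype.val (h ⟨w, hw⟩)
              calc w * g = g * w * g⁻¹ * g := by rw [e]
                _ = g * w := by group
          rw [hker, index_ker]
          intro hd'
          have h := hd'.trans (card_subgroup_dvd_card _)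
          rw [IsCyclic.card_mulAut, hWcard, Nat.totient_prime hp] at h
          have h2 := hp.two_le
          have h3 := Nat.le_of_dvd (by omega : 0 < p - 1) h
          omega
        have hdd : (D ⊓ Z).index ∣ D.index * Z.index := by
          rw [← relIndex_mul_index (inf_le_left : D ⊓ Z ≤ D), inf_relIndex_left, mul_comm]
          exact Nat.mul_dvd_mul_left _ (relIndex_dvd_index_of_normal Z D)
        exact hp.not_dvd_mul h5 hZi (hd.trans hdd)

end Cfsg.Agent.MaxNilpotent
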